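/- `Hom(-, I)` carries quasi-isomorphisms to quasi-isomorphisms for K-injective `I`. -/
import Groth.Agent.AffDual.Vanish

set_option autoImplicit false
set_option backward.isDefEq.respectTransparency false
set_option backward.isDefEq.respectTransparency.types false
set_option linter.style.haveILetI false
universe u

open CategoryTheory Limits AlgebraicGeometry HomologicalComplex

attribute [local instance] HasDerivedCategory.standard

namespace Groth.Agent.RHomPlus

open Groth.Agent.KFlat Groth.Agent.RHomCx

variable {X : Scheme.{u}}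

/-- `Hom(C, I)` is acyclic for every acyclic `C` -/
theorem acyclic_GE {C : CochainComplex X.Modules ℤ} (hC : C.Acyclic) (I : CochainComplex X.Modules ℤ)
    [I.IsKInjective] : ((GE C).obj I).Acyclic := fun i =>
  AffDual.exactAt_GE_of_homotopy_flat i fun Z hZ φ => ⟨CochainComplex.IsKInjective.homotopyZero φ
    (acyclic_of_iso (swapIso (braid X.sheaf) C ((single X.Modules (ComplexShape.up ℤ) i).obj Z))
      (KFlat.acyclic_iff_isZero.2 (hZ C fun j => (hC j).isZero_homology)))⟩

/-- outer acyclic term -/
theorem quasiIso_g_of_acyclic {A : Type*} [Category A] [Abelian A] {S : ShortComplex (CochainComplex A ℤ)}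
    (hS : S.ShortExact) (h : S.X₁.Acyclic) : QuasiIso S.g := by
  refine ⟨fun i => (quasiIsoAt_iff_isIso_homologyMap _ _).2 ?_⟩
  haveI : Mono (homologyMap S.g i) := (hS.homology_exact₂ i).mono_g ((h i).isZero_homology.eq_of_src _ _)
  haveI : Epi (homologyMap S.g i) :=
    (hS.homology_exact₃ i (i + 1) (by simp)).epi_f ((h (i + 1)).isZero_homology.eq_of_tgt _ _)
  exact isIso_of_mono_of_epi _

/-- the projection from a sum with a contractible complex -/
theorem quasiIso_gmap_fst {L C : CochainComplex X.Modules ℤ} (h : Homotopy (𝟙 C) 0)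
    (I : CochainComplex X.Modules ℤ) : QuasiIso ((gmap (biprod.fst : L ⊞ C ⟶ L)).app I) := by
  let S : ShortComplex (CochainComplex X.Modules ℤ) :=
    ShortComplex.mk (biprod.inl : L ⟶ L ⊞ C) biprod.snd biprod.inl_snd
  have s : S.Splitting :=
    { r := biprod.fst
      s := biprod.inr
      f_r := biprod.inl_fst
      s_g := biprod.inr_snd
      id := biprod.total }
  haveI h1 : QuasiIso ((gmap (biprod.inl : L ⟶ L ⊞ C)).app I) :=
    quasiIso_g_of_acyclic (shortExact_gSC (fun n => s.map (eval X.Modules (ComplexShape.up ℤ) n)) I)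
      (acyclic_GE_of_contractible h I)
  have h2 : (gmap (biprod.fst : L ⊞ C ⟶ L)).app I ≫ (gmap (biprod.inl : L ⟶ L ⊞ C)).app I = 𝟙 _ := by
    rw [← NatTrans.comp_app, ← gmap_comp, biprod.inl_fst, gmap_id, NatTrans.id_app]
  haveI : QuasiIso ((gmap (biprod.fst : L ⊞ C ⟶ L)).app I ≫ (gmap (biprod.inl : L ⟶ L ⊞ C)).app I) := by
    rw [h2]; infer_instance
  exact quasiIso_of_comp_right _ ((gmap (biprod.inl : L ⟶ L ⊞ C)).app I)

/-- **invariance of `Hom(-, I)` under quasi-isomorphisms** -/
theorem quasiIso_gmap {K L : CochainComplex X.Modules ℤ} (a : K ⟶ L) [QuasiIso a]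
    (I : CochainComplex X.Modules ℤ) [I.IsKInjective] : QuasiIso ((gmap a).app I) := by
  haveI h1 : QuasiIso ((gmap (biprod.lift a (CochainComplex.mappingCone.inr (𝟙 K)))).app I) :=
    quasiIso_g_of_acyclic (shortExact_gSC (KFlat.cylSplitting a) I) (acyclic_GE (mappingCone_acyclic a) I)
  haveI h2 := quasiIso_gmap_fst (L := L) (CochainComplex.mappingCone.homotopyToZeroOfId K) I
  have h3 : (gmap a).app I = (gmap (biprod.fst : L ⊞ CochainComplex.mappingCone (𝟙 K) ⟶ L)).app I ≫
      (gmap (biprod.lift a (CochainComplex.mappingCone.inr (𝟙 K)))).app I := by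
    rw [← NatTrans.comp_app, ← gmap_comp, biprod.lift_fst]
  rw [h3]
  infer_instance

end Groth.Agent.RHomPlus
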