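/- `Hom(i_*O[0], -)` is `i_* Hom(O_Z, -)` for a closed immersion. -/
import Groth.Prelude.Def_Dual3
import Groth.Agent.RHomCx.Props
import Groth.Agent.KFlat.ClosedImm
import Groth.Agent.KInj.Adjunction

set_option autoImplicit false
set_option backward.isDefEq.respectTransparency false
set_option backward.isDefEq.respectTransparency.types false
set_option linter.style.haveILetI false
universe u

open CategoryTheory Limits AlgebraicGeometry HomologicalComplex

namespace Groth.Agent.RHomPlus

open Groth.Agent.KFlat Groth.Agent.RHomCx

variable {X : Scheme.{u}}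

/-- `- ⊗ F[0]` is `- ⊗ F` termwise -/
noncomputable def feSingleIso (F : X.Modules) :
    FE ((single X.Modules (ComplexShape.up ℤ) 0).obj F) ≅
      ((schB X).flip.obj F).mapHomologicalComplex (ComplexShape.up ℤ) :=
  (NatIso.ofComponents (fun L => tensSingleIso (schB X) L F) fun {L L'} g => by
      refine HomologicalComplex.hom_ext _ _ fun n => ?_
      exact singleXIso_natural g _ n).symm

variable {Z : Scheme.{u}} (i : Z ⟶ X) [IsClosedImmersion i]

/-- `N ⊗ i_*O ≅ i_* i^* N` -/
noncomputable def tensPushUnitIso :
    (schB X).flip.obj ((Scheme.Modules.pushforward i).obj (Coh.structureModule Z)) ≅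
      Scheme.Modules.pullback i ⋙ Scheme.Modules.pushforward i :=
  ((KFlat.braid X.sheaf).app ((Scheme.Modules.pushforward i).obj (Coh.structureModule Z))).symm ≪≫
    NatIso.ofComponents (fun N => projFormulaIso i (Coh.structureModule Z) N ≪≫
      (Scheme.Modules.pushforward i).mapIso ((DQCoh.unitTensNat Z).app ((Scheme.Modules.pullback i).obj N)))
      fun {N N'} b => by
        have h1 := projHom_natural_right i (Coh.structureModule Z) b
        have h2 := (DQCoh.unitTensNat Z).hom.naturality ((Scheme.Modules.pullback i).map b)
        refine ((Category.assoc _ _ _).symm.trans (congrArg (· ≫ _) h1)).trans ((Category.assoc _ _ _).trans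
          (Eq.trans (congrArg (_ ≫ ·) ?_) (Category.assoc _ _ _).symm))
        exact ((Scheme.Modules.pushforward i).map_comp _ _).symm.trans
          ((congrArg (Scheme.Modules.pushforward i).map h2).trans ((Scheme.Modules.pushforward i).map_comp _ _))

variable [Dual3.HasHomO i]

/-- the complex of `i_* Hom(O_Z, -)` -/
noncomputable abbrev hoC : CochainComplex X.Modules ℤ ⥤ CochainComplex X.Modules ℤ :=
  (Dual3.homO i ⋙ Scheme.Modules.pushforward i).mapHomologicalComplex (ComplexShape.up ℤ)

/-- `Hom(i_*O[0], -) ≅ i_* Hom(O_Z, -)` on complexes -/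
noncomputable def geSingleIso :
    GE ((single X.Modules (ComplexShape.up ℤ) 0).obj ((Scheme.Modules.pushforward i).obj (Coh.structureModule Z))) ≅
      hoC i :=
  ((adjE _).ofNatIsoLeft (feSingleIso _ ≪≫ NatIso.mapHomologicalComplex (tensPushUnitIso i) (ComplexShape.up ℤ))
    ).rightAdjointUniq
      (KInj.mapHomologicalComplexAdj ((Scheme.Modules.pullbackPushforwardAdjunction i).comp (Dual3.homOAdj i))
        (ComplexShape.up ℤ))

end Groth.Agent.RHomPlus
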