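/- `i_* R Hom(O_Z, -) ≅ RHom(i_*O_Z, -)` on bounded below complexes. -/
import Groth.Prelude.Def_DCoh4
import Groth.Agent.RHomPlus.GmapQis
import Groth.Agent.RHomPlus.SingleHom
import Groth.Agent.RHomCx.Exists
import Groth.Agent.RHomCx.DualMain
import Groth.Agent.DerPlus.LongExact

set_option autoImplicit false
set_option backward.isDefEq.respectTransparency false
set_option backward.isDefEq.respectTransparency.types false
set_option linter.style.haveILetI false
universe u

open CategoryTheory Limits AlgebraicGeometry HomologicalComplex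

attribute [local instance] HasDerivedCategory.standard

namespace Groth.Agent.RHomPlus

open Groth.Agent.KFlat Groth.Agent.RHomCx

section Descent

variable {A : Type*} [Category A] [Abelian A] [EnoughInjectives A] {D : Type*} [Category D]

/-- functors on `D⁺` agreeing naturally on complexes of injectives -/
theorem nonempty_natIso_plus {G₁ G₂ : DerivedCategory.Plus A ⥤ D} {H : CochainComplex.Plus A ⥤ D}
    (α : H ⟶ DerivedCategory.Plus.Q (C := A) ⋙ G₁) (β : H ⟶ DerivedCategory.Plus.Q (C := A) ⋙ G₂)
    (h : ∀ L : CochainComplex.Plus (InjectiveObject A),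
      IsIso (α.app ((InjectiveObject.ι A).mapCochainComplexPlus.obj L)) ∧
        IsIso (β.app ((InjectiveObject.ι A).mapCochainComplexPlus.obj L))) : Nonempty (G₁ ≅ G₂) := by
  have hrep : ∀ X : DerivedCategory.Plus A, ∃ L : CochainComplex.Plus (InjectiveObject A),
      Nonempty ((DerivedCategory.Plus.Q (C := A)).obj ((InjectiveObject.ι A).mapCochainComplexPlus.obj L) ≅ X) := fun X => by
    obtain ⟨n, hn⟩ := X.property
    haveI : X.IsGE n := (X.isGE_ι_obj_iff n).1 hn
    obtain ⟨L, _, ⟨e⟩⟩ := DerivedCategory.Plus.exists_injective_nonempty_iso X n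
    exact ⟨L, ⟨e⟩⟩
  choose L φ' using hrep
  let I := fun X => (InjectiveObject.ι A).mapCochainComplexPlus.obj (L X)
  let φ : ∀ X, (DerivedCategory.Plus.Q (C := A)).obj (I X) ≅ X := fun X => (φ' X).some
  have hh : ∀ X, IsIso (α.app (I X)) ∧ IsIso (β.app (I X)) := fun X => h (L X)
  let θ : ∀ X : DerivedCategory.Plus A, G₁.obj X ≅ G₂.obj X := fun X =>
    G₁.mapIso (φ X).symm ≪≫ (@asIso _ _ _ _ (α.app (I X)) (hh X).1).symm ≪≫
      @asIso _ _ _ _ (β.app (I X)) (hh X).2 ≪≫ G₂.mapIso (φ X)
  refine ⟨NatIso.ofComponents θ fun {X X'} u => ?_⟩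
  obtain ⟨k', hk'⟩ := (DerivedCategory.Plus.Qh_map_bijective_of_isKInjective
    ((HomotopyCategory.Plus.quotient A).obj (I X)) ((HomotopyCategory.Plus.quotient A).obj (I X'))
    (inferInstanceAs (CochainComplex.IsKInjective
      (((InjectiveObject.ι A).mapHomologicalComplex (ComplexShape.up ℤ)).obj (L X').obj)))).2
    ((φ X).hom ≫ u ≫ (φ X').inv)
  obtain ⟨k, rfl⟩ := (HomotopyCategory.Plus.quotient A).map_surjective k'
  have hk : (DerivedCategory.Plus.Q (C := A)).map k = (φ X).hom ≫ u ≫ (φ X').inv := hk'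
  have hα := α.naturality k
  have hβ := β.naturality k
  rw [Functor.comp_map] at hα hβ
  haveI := (hh X).1
  haveI := (hh X').1
  have hu : u = (φ X).inv ≫ (DerivedCategory.Plus.Q (C := A)).map k ≫ (φ X').hom := by rw [hk]; simp
  have key : G₁.map ((DerivedCategory.Plus.Q (C := A)).map k) ≫ inv (α.app (I X')) ≫ β.app (I X') =
      inv (α.app (I X)) ≫ β.app (I X) ≫ G₂.map ((DerivedCategory.Plus.Q (C := A)).map k) := by
    rw [← hβ, IsIso.eq_inv_comp, ← reassoc_of% hα, IsIso.hom_inv_id_assoc]
  subst hu
  simp only [θ, Iso.trans_hom, Iso.symm_hom, Functor.mapIso_hom,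
    Functor.mapIso_inv, asIso_inv, asIso_hom, Functor.map_comp, Category.assoc]
  rw [← G₁.map_comp_assoc (φ X').hom (φ X').inv, Iso.hom_inv_id, G₁.map_id, Category.id_comp, reassoc_of% key,
    ← G₂.map_comp_assoc (φ X).hom (φ X).inv, Iso.hom_inv_id, G₂.map_id, Category.id_comp]

end Descent

variable {X : Scheme.{u}}

/-- the comparison `Hom(P, -) → RHom(P, -)` -/
noncomputable def cmpRHom (P : CochainComplex X.Modules ℤ) [DCoh.HasLTensorCx P] [DCoh.HasRSheafHom P] :
    GE P ⋙ DerivedCategory.Q ⟶ DerivedCategory.Q ⋙ DCoh.RSheafHom P where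
  app K := (DCoh.RSheafHomAdj P).homEquiv _ _
    ((ltCounit P).app ((GE P).obj K) ≫ DerivedCategory.Q.map ((adjE P).counit.app K))
  naturality K K' f := by
    refine ((DCoh.RSheafHomAdj P).homEquiv_naturality_left _ _).symm.trans
      (Eq.trans (congrArg _ ?_) ((DCoh.RSheafHomAdj P).homEquiv_naturality_right _ _))
    have h1 := (ltCounit P).naturality ((GE P).map f)
    have h2 := (adjE P).counit.naturality f
    refine (Category.assoc _ _ _).symm.trans ((congrArg (· ≫ _) h1).trans ((Category.assoc _ _ _).trans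
      (Eq.trans (congrArg (_ ≫ ·) ?_) (Category.assoc _ _ _).symm)))
    exact (DerivedCategory.Q.map_comp _ _).symm.trans
      ((congrArg DerivedCategory.Q.map h2).trans (DerivedCategory.Q.map_comp _ _))

theorem isIso_cmpRHom (P : CochainComplex X.Modules ℤ) (hP : DCoh.IsKFlat P) [DCoh.HasLTensorCx P]
    [DCoh.HasRSheafHom P] (I : CochainComplex X.Modules ℤ) [I.IsKInjective] : IsIso ((cmpRHom P).app I) := by
  rw [isIso_iff_yoneda_map_bijective]
  exact fun W => bijective_comp_of_mate (DCoh.RSheafHomAdj P) _ (bijective_ltMap P hP I W)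

variable {Z : Scheme.{u}} (i : Z ⟶ X) [IsClosedImmersion i] [Dual3.HasHomO i] [EnoughInjectives X.Modules]
  [PreservesFiniteLimits (Scheme.Modules.pushforward i)] [PreservesFiniteColimits (Scheme.Modules.pushforward i)]

/-- **`i_* R Hom(O_Z, -) ≅ RHom(i_*O_Z, -)`** -/
theorem nonempty_pushD_RHomOPlus (E : CochainComplex X.Modules ℤ)
    (hE : Nonempty (DCoh.toD X E ≅ DCoh.inD X ((Scheme.Modules.pushforward i).obj (Coh.structureModule Z))))
    [DCoh.HasLTensorCx E] [DCoh.HasRSheafHom E] :
    Nonempty (Dual3.RHomOPlus i ⋙ (DerivedCategory.Plus.ι : DerivedCategory.Plus Z.Modules ⥤ DCoh.D Z) ⋙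
      Dual3.pushD i ≅ (DerivedCategory.Plus.ι : DerivedCategory.Plus X.Modules ⥤ DCoh.D X) ⋙ DCoh.RSheafHom E) := by
  obtain ⟨eE⟩ := hE
  let sg := (single X.Modules (ComplexShape.up ℤ) 0).obj ((Scheme.Modules.pushforward i).obj (Coh.structureModule Z))
  let P := (resF X).obj sg
  haveI := hasLTensorCx P
  obtain ⟨Φ⟩ := nonempty_LTensorCx_congr (A := P) (B := E)
    (asIso (DerivedCategory.Q.map ((resψ X).app sg)) ≪≫ ((DerivedCategory.singleFunctorIsoCompQ X.Modules 0).app _).symm
      ≪≫ eE.symm)
  haveI : DCoh.HasRSheafHom P := Functor.isLeftAdjoint_of_iso Φ.symm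
  let eR : DCoh.RSheafHom P ≅ DCoh.RSheafHom E :=
    ((DCoh.RSheafHomAdj P).ofNatIsoLeft Φ).rightAdjointUniq (DCoh.RSheafHomAdj E)
  let ιX := (CochainComplex.plus X.Modules).ι
  let H : CochainComplex.Plus X.Modules ⥤ DCoh.D X := ιX ⋙ hoC i ⋙ DerivedCategory.Q
  let α : H ⟶ DerivedCategory.Plus.Q ⋙ Dual3.RHomOPlus i ⋙ DerivedCategory.Plus.ι ⋙ Dual3.pushD i :=
    { app := fun K => (Scheme.Modules.pushforward i).mapDerivedCategoryFactors.inv.app
          (((Dual3.homO i).mapHomologicalComplex (ComplexShape.up ℤ)).obj K.obj) ≫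
        (Dual3.pushD i).map ((DerivedCategory.quotientCompQhIso Z.Modules).inv.app _ ≫
          DerivedCategory.Plus.ι.map ((Dual3.homO i).rightDerivedFunctorPlusUnit.app
            ((HomotopyCategory.Plus.quotient X.Modules).obj K)))
      naturality := fun K K' f => by
        have h1 := (Scheme.Modules.pushforward i).mapDerivedCategoryFactors.inv.naturality
          (((Dual3.homO i).mapHomologicalComplex (ComplexShape.up ℤ)).map f.hom)
        have h2 := (DerivedCategory.quotientCompQhIso Z.Modules).inv.naturality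
          (((Dual3.homO i).mapHomologicalComplex (ComplexShape.up ℤ)).map f.hom)
        have h3 := congrArg DerivedCategory.Plus.ι.map ((Dual3.homO i).rightDerivedFunctorPlusUnit.naturality
          ((HomotopyCategory.Plus.quotient X.Modules).map f))
        rw [Functor.map_comp, Functor.map_comp] at h3
        refine (Category.assoc _ _ _).symm.trans ((congrArg (· ≫ _) h1).trans ((Category.assoc _ _ _).trans
          (Eq.trans (congrArg (_ ≫ ·) ?_) (Category.assoc _ _ _).symm)))
        refine ((Dual3.pushD i).map_comp _ _).symm.trans (Eq.trans (congrArg (Dual3.pushD i).map ?_)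
          ((Dual3.pushD i).map_comp _ _))
        exact (Category.assoc _ _ _).symm.trans ((congrArg (· ≫ _) h2).trans ((Category.assoc _ _ _).trans
          (Eq.trans (congrArg (_ ≫ ·) h3) (Category.assoc _ _ _).symm))) }
  let β : H ⟶ DerivedCategory.Plus.Q ⋙ DerivedCategory.Plus.ι ⋙ DCoh.RSheafHom E :=
    { app := fun K => DerivedCategory.Q.map ((geSingleIso i).inv.app K.obj ≫ (gmap ((resψ X).app sg)).app K.obj) ≫
        (cmpRHom P).app K.obj ≫ eR.hom.app _ ≫
          (DCoh.RSheafHom E).map ((DerivedCategory.quotientCompQhIso X.Modules).inv.app K.obj)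
      naturality := fun K K' f => by
        have h1 := ((geSingleIso i).inv ≫ gmap ((resψ X).app sg)).naturality f.hom
        have h1' := congrArg DerivedCategory.Q.map h1
        rw [Functor.map_comp, Functor.map_comp] at h1'
        have h2 := (cmpRHom P).naturality f.hom
        have h3 := eR.hom.naturality (DerivedCategory.Q.map f.hom)
        have h4 := congrArg (DCoh.RSheafHom E).map
          ((DerivedCategory.quotientCompQhIso X.Modules).inv.naturality f.hom)
        rw [Functor.map_comp, Functor.map_comp] at h4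
        refine (Category.assoc _ _ _).symm.trans ((congrArg (· ≫ _) h1').trans ((Category.assoc _ _ _).trans
          (Eq.trans (congrArg (_ ≫ ·) ?_) (Category.assoc _ _ _).symm)))
        refine (Category.assoc _ _ _).symm.trans ((congrArg (· ≫ _) h2).trans ((Category.assoc _ _ _).trans
          (Eq.trans (congrArg (_ ≫ ·) ?_) (Category.assoc _ _ _).symm)))
        exact (Category.assoc _ _ _).symm.trans ((congrArg (· ≫ _) h3).trans ((Category.assoc _ _ _).trans
          (Eq.trans (congrArg (_ ≫ ·) h4) (Category.assoc _ _ _).symm))) }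
  refine nonempty_natIso_plus α β fun L => ?_
  let K := (InjectiveObject.ι X.Modules).mapCochainComplexPlus.obj L
  haveI hK : CochainComplex.IsKInjective K.obj := inferInstanceAs (CochainComplex.IsKInjective
    (((InjectiveObject.ι X.Modules).mapHomologicalComplex (ComplexShape.up ℤ)).obj L.obj))
  constructor
  · haveI : IsIso ((Dual3.homO i).rightDerivedFunctorPlusUnit.app
        ((HomotopyCategory.Plus.quotient X.Modules).obj K)) := inferInstanceAs (IsIso
      ((Dual3.homO i).rightDerivedFunctorPlusUnit.app ((HomotopyCategory.Plus.quotient X.Modules).obj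
        ((InjectiveObject.ι X.Modules).mapCochainComplexPlus.obj L))))
    exact @IsIso.comp_isIso _ _ _ _ _ _ _ inferInstance inferInstance
  · haveI := isIso_cmpRHom P (isKFlat_resF sg) K.obj
    haveI := quasiIso_gmap ((resψ X).app sg) K.obj
    haveI : IsIso (DerivedCategory.Q.map ((geSingleIso i).inv.app K.obj ≫ (gmap ((resψ X).app sg)).app K.obj)) :=
      (DerivedCategory.isIso_Q_map_iff_quasiIso _ _).2 inferInstance
    exact @IsIso.comp_isIso _ _ _ _ _ _ _ inferInstance inferInstance

end Groth.Agent.RHomPlus
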